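import Cfsg.Agent.H153.ZerosSuz
import Cfsg.Agent.H997.OutSuz
import Cfsg.Agent.H997.OutCard
import Cfsg.Agent.KFacts.SuzOut
import Cfsg.Agent.CpAutSuz.Gen

/-!
# Inputs for the OUT row of the Suzuki group in S4908 (helper882)

`index_two` : `|Out Suz| = 2`; `card_cent_suz` (H153) : `|C(y)| = 13` for `|y| = 13`; `no_fix` : no outer involutory
automorphism fixes an element of order 13.
-/

set_option autoImplicit false
set_option maxRecDepth 100000

namespace Cfsg.Agent.H882.S8.SuzIn

open Subgroup Cfsg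
open Cfsg.Spor (Suz)
open Cfsg.Agent.SporadicRecognition.SuzPhi Cfsg.Agent.SporadicRecognition.SuzOrder
open Cfsg.Agent.KFacts.SuzRho Cfsg.Agent.KFacts.SuzFix
open Cfsg.Agent.CpAutSuz.Fix
open Cfsg.Agent.SporRec.SuzCl

theorem index_two : (MulAut.conj : Suz →* MulAut Suz).range.index = 2 :=
  Cfsg.Agent.H997.OutCard.card_eq_two' Cfsg.Agent.H997.OutSuz.rho_outer Cfsg.Agent.KFacts.SuzOut.index_eq

/-- an element of order 13 does not fix both `0` and `1575` -/
theorem two_pts {v : Suz} (hv : orderOf v = 13) (h0 : φ v 0 = 0) (h1 : φ v 1575 = 1575) : False := by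
  have h2 := card_Fx_thirteen hv
  obtain ⟨c, hc⟩ := Finset.card_eq_one.1 h2
  have h3 : (0 : ℕ) ∈ Fx v := mem_Fx.2 ⟨by norm_num, h0⟩
  have h4 : (1575 : ℕ) ∈ Fx v := mem_Fx.2 ⟨by norm_num, h1⟩
  rw [hc, Finset.mem_singleton] at h3 h4
  omega

theorem no_rho {v : Suz} (hv : orderOf v = 13) (h : rho v = v) : False := by
  have key : ∀ {w : Suz}, orderOf w = 13 → rho w = w → φ w 0 = 0 → False := by
    intro w hw hr h0
    refine two_pts hw h0 ?_
    have h1 := rho_fix h0
    rwa [hr] at h1
  rcases zero_of_rho h with h0 | h0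
  · exact key hv h h0
  · have hr : rho (v * v) = v * v := by rw [map_mul, h]
    have ho : orderOf (v * v) = 13 := by
      rw [← pow_two, Nat.Coprime.orderOf_pow (by rw [hv]; norm_num), hv]
    rcases zero_of_rho hr with h2 | h2
    · exact key ho hr h2
    · rw [map_mul, Equiv.Perm.mul_apply, h0] at h2
      have h3 := (φ v).injective (h2.trans h0.symm)
      omega

theorem no_tau {v : Suz} (hv : orderOf v = 13) (h : tau v = v) : False := by
  let F : Subgroup Suz :=
    { carrier := {g | tau g = g}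
      mul_mem' := fun {a b} ha hb => by
        show tau (a * b) = a * b
        rw [map_mul, show tau a = a from ha, show tau b = b from hb]
      one_mem' := map_one tau
      inv_mem' := fun {a} ha => by
        show tau a⁻¹ = a⁻¹
        rw [map_inv, show tau a = a from ha] }
  have hF : ∀ g, g ∈ F ↔ tau g = g := fun g => Iff.rfl
  have hc := card_tau hF
  have h0 : v ∈ F := h
  have h1 := orderOf_dvd_natCard (⟨v, h0⟩ : F)
  rw [Subgroup.orderOf_mk, hv, hc] at h1
  norm_num at h1

/-- no outer involutory automorphism of `Suz` fixes an element of order 13 -/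
theorem no_fix {al : MulAut Suz} (h2 : al * al = 1) (ho : al ∉ (MulAut.conj : Suz →* MulAut Suz).range) {y : Suz}
    (hy : orderOf y = 13) : al y ≠ y := by
  intro h
  have hc : ∀ g : Suz, orderOf (g⁻¹ * y * g) = 13 := by
    intro g
    have h1 : g⁻¹ * y * g = MulAut.conj g⁻¹ y := by rw [MulAut.conj_apply, inv_inv]
    rw [h1, MulEquiv.orderOf_eq, hy]
  have hred : ∀ (g : Suz) (be : MulAut Suz), al = MulAut.conj g * be * (MulAut.conj g)⁻¹ →
      be (g⁻¹ * y * g) = g⁻¹ * y * g := by
    intro g be hbe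
    have h5 : (MulAut.conj g)⁻¹ y = g⁻¹ * y * g := by rw [← map_inv, MulAut.conj_apply, inv_inv]
    have h4 : al y = MulAut.conj g (be ((MulAut.conj g)⁻¹ y)) := by rw [hbe]; rfl
    rw [h, h5] at h4
    have h3 : MulAut.conj g (be (g⁻¹ * y * g)) = y := h4.symm
    rw [MulAut.conj_apply] at h3
    have h6 : be (g⁻¹ * y * g) = g⁻¹ * (g * be (g⁻¹ * y * g) * g⁻¹) * g := by group
    rw [h3] at h6
    exact h6
  rcases Cfsg.Agent.KFacts.SuzInvol.outer h2 (fun s hs => ho ⟨s, hs.symm⟩) with ⟨g, hg⟩ | ⟨g, hg⟩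
  · exact no_rho (hc g) (hred g _ hg)
  · exact no_tau (hc g) (hred g _ hg)

end Cfsg.Agent.H882.S8.SuzIn
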