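import Cfsg.Agent.H882.S8.Out
import Cfsg.Agent.H882.S8.SuzIn
import Cfsg.Agent.H424.DegTools

/-!
# The OUT row of the Suzuki group in S4908 (helper882)
-/

set_option autoImplicit false

namespace Cfsg.Agent.H882.S8.SuzOut

open Cfsg Subgroup
open Cfsg.Spor (Suz)

universe v

theorem ne_model : charDegrees Suz ≠ charDegrees (MulAut Suz) := by
  have hfin : Finite Suz := Cfsg.Agent.KFacts.SuzSheetE.finite_suz
  have hcard : Nat.card Suz = 448345497600 := Cfsg.Agent.NotCT.Orders.suz ⟨MulEquiv.refl _⟩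
  refine Out.ne (p := 13) (by norm_num) (by norm_num) ?_ (by rw [hcard]; norm_num) (by rw [hcard]; norm_num)
    (fun y hy => Cfsg.Agent.H153.Zeros.card_cent_suz hy) (by rw [hcard]) SuzIn.index_two
    (fun al h2 ho y hy => SuzIn.no_fix h2 ho hy)
  rw [eq_bot_iff]
  intro z hz
  rw [mem_bot]
  exact Cfsg.Agent.KFacts.SuzInvol.center_triv fun y => ((mem_center_iff.1 hz) y).symm

/-- **OUT for `Suz`** -/
theorem out {X : Type v} [Group X] (h : Spor.IsoSuz X) : charDegrees X ≠ charDegrees (MulAut X) := by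
  obtain ⟨e⟩ := h
  rw [Cfsg.Agent.H424.DegTools.charDegrees_congr e, Cfsg.Agent.H424.DegTools.charDegrees_congr (MulAut.congr e)]
  exact ne_model

end Cfsg.Agent.H882.S8.SuzOut
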