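import Cfsg.Agent.H417.BlockCount
import Cfsg.Prelude.Def_DegreeGraph

/-!
# `charDegrees X ≠ charDegrees (MulAut X)` from one prime (helper882)

`p ≥ 5` divides `|X|` exactly once, `|C(y)| = p` for `|y| = p`, `|X| / p ≡ (p - 1) / 2 (mod p)` (so `|N(P)| = p (p - 1) / 2`
by Sylow), `|Out X| = 2` and no outer involutory automorphism fixes an element of order `p`. Then the degrees of `Aut X`
are `0, ±1` modulo `p`, and `X` has a degree `±(p - 1) / 2` modulo `p`.
-/

set_option autoImplicit false

namespace Cfsg.Agent.H882.S8.Out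

open Cfsg Subgroup
open Cfsg.Agent.Characters.Core
open Cfsg.Agent.M23Order.Base
open Cfsg.Agent.H417.BlockCount

universe u

variable {X : Type u} [Group X] [Finite X] {p : ℕ}

/-- `|C(z)| = p` for the elements `z` of order `p` of `Aut X` -/
theorem cent_aut (hp : p.Prime) (hp2 : p ≠ 2) (hcen : center X = ⊥)
    (hC : ∀ y : X, orderOf y = p → Nat.card (centralizer ({y} : Set X)) = p)
    (hi : (MulAut.conj : X →* MulAut X).range.index = 2)
    (hO : ∀ al : MulAut X, al * al = 1 → al ∉ (MulAut.conj : X →* MulAut X).range → ∀ y : X, orderOf y = p → al y ≠ y)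
    (z : MulAut X) (hz : orderOf z = p) : Nat.card (centralizer ({z} : Set (MulAut X))) = p := by
  classical
  have hinj : Function.Injective (MulAut.conj : X →* MulAut X) := by
    rw [injective_iff_map_eq_one]
    intro a ha
    have h1 : a ∈ center X := by
      rw [mem_center_iff]
      intro g
      have h2 : MulAut.conj a g = g := by rw [ha]; rfl
      rw [MulAut.conj_apply] at h2
      exact (mul_inv_eq_iff_eq_mul.1 h2).symm
    rwa [hcen, mem_bot] at h1
  -- `z` is inner
  obtain ⟨k, hk⟩ := hp.odd_of_ne_two hp2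
  have hzr : z ∈ (MulAut.conj : X →* MulAut X).range := by
    have h1 : z = (z ^ (k + 1)) ^ 2 := by
      rw [← pow_mul, show (k + 1) * 2 = (2 * k + 1) + 1 by ring, ← hk, pow_succ, ← hz, pow_orderOf_eq_one, one_mul]
    rw [h1]
    exact Subgroup.sq_mem_of_index_two hi _
  obtain ⟨y, hy⟩ := hzr
  have hyo : orderOf y = p := by rw [← hz, ← hy, orderOf_injective _ hinj]
  set C := centralizer ({z} : Set (MulAut X)) with hCdef
  have hmem : ∀ al : MulAut X, al ∈ C ↔ al y = y := by
    intro al
    rw [hCdef, mem_centralizer_singleton_iff, ← hy]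
    constructor
    · intro h
      apply hinj
      have h1 : (MulAut.conj (al y) : MulAut X) = al * MulAut.conj y * al⁻¹ := by
        ext g
        simp [MulAut.conj_apply]
      rw [h1]
      exact mul_inv_eq_of_eq_mul h
    · intro h
      have h1 : (MulAut.conj (al y) : MulAut X) = al * MulAut.conj y * al⁻¹ := by
        ext g
        simp [MulAut.conj_apply]
      rw [h] at h1
      exact (eq_mul_inv_iff_mul_eq.1 h1).symm
  -- the inner part
  have hin : Nat.card (C ⊓ (MulAut.conj : X →* MulAut X).range : Subgroup (MulAut X)) = p := by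
    have h1 : C ⊓ (MulAut.conj : X →* MulAut X).range = (centralizer ({y} : Set X)).map (MulAut.conj : X →* MulAut X) := by
      ext al
      rw [mem_inf, mem_map]
      constructor
      · rintro ⟨h2, g, rfl⟩
        refine ⟨g, ?_, rfl⟩
        rw [hmem, MulAut.conj_apply] at h2
        rw [mem_centralizer_singleton_iff]
        exact mul_inv_eq_iff_eq_mul.1 h2
      · rintro ⟨g, hg, rfl⟩
        refine ⟨?_, g, rfl⟩
        rw [mem_centralizer_singleton_iff] at hg
        rw [hmem, MulAut.conj_apply]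
        exact mul_inv_eq_iff_eq_mul.2 hg
    rw [h1, card_map_of_injective hinj, hC y hyo]
  -- no involution in `C`
  have hodd : ¬ 2 ∣ Nat.card C := by
    intro h2
    have : Fact (Nat.Prime 2) := ⟨Nat.prime_two⟩
    obtain ⟨t, ht⟩ := exists_prime_orderOf_dvd_card' 2 h2
    have ht2 : (t : MulAut X) * (t : MulAut X) = 1 := by
      have h3 : t ^ 2 = 1 := by rw [← ht, pow_orderOf_eq_one]
      have h4 := congrArg Subtype.val h3
      rw [pow_two] at h4
      exact h4
    by_cases hr : (t : MulAut X) ∈ (MulAut.conj : X →* MulAut X).range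
    · have h3 := orderOf_dvd_natCard
        (⟨(t : MulAut X), mem_inf.2 ⟨t.2, hr⟩⟩ : (C ⊓ (MulAut.conj : X →* MulAut X).range : Subgroup (MulAut X)))
      rw [Subgroup.orderOf_mk, Subgroup.orderOf_coe, ht, hin] at h3
      exact hp2 ((Nat.prime_dvd_prime_iff_eq Nat.prime_two hp).1 h3).symm
    · exact hO _ ht2 hr y hyo ((hmem _).1 t.2)
  -- the index of the inner part
  have h5 : (C ⊓ (MulAut.conj : X →* MulAut X).range : Subgroup (MulAut X)).relIndex C ∣ 2 := by
    have hn : (MulAut.conj : X →* MulAut X).range.Normal := Subgroup.normal_of_index_eq_two hi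
    rw [inf_comm, inf_relIndex_right]
    rw [← hi]
    exact relIndex_dvd_index_of_normal _ _
  have h6 : Nat.card (C ⊓ (MulAut.conj : X →* MulAut X).range : Subgroup (MulAut X)) *
      (C ⊓ (MulAut.conj : X →* MulAut X).range : Subgroup (MulAut X)).relIndex C = Nat.card C := by
    have h8 := relIndex_mul_relIndex (⊥ : Subgroup (MulAut X)) (C ⊓ (MulAut.conj : X →* MulAut X).range) C bot_le inf_le_left
    rwa [relIndex_bot_left, relIndex_bot_left] at h8
  rcases (Nat.dvd_prime Nat.prime_two).1 h5 with h7 | h7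
  · rw [h7, hin, mul_one] at h6
    exact h6.symm
  · exact absurd (h6 ▸ h7 ▸ Dvd.intro_left _ rfl) hodd

/-- the two sets of degrees differ -/
theorem ne (hp : p.Prime) (hp5 : 5 ≤ p) (hcen : center X = ⊥) (hd : p ∣ Nat.card X) (hdd : ¬ p ^ 2 ∣ Nat.card X)
    (hC : ∀ y : X, orderOf y = p → Nat.card (centralizer ({y} : Set X)) = p)
    (he : Nat.card X / p % p = (p - 1) / 2)
    (hi : (MulAut.conj : X →* MulAut X).range.index = 2)
    (hO : ∀ al : MulAut X, al * al = 1 → al ∉ (MulAut.conj : X →* MulAut X).range → ∀ y : X, orderOf y = p → al y ≠ y) :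
    charDegrees X ≠ charDegrees (MulAut X) := by
  classical
  have : Fact p.Prime := ⟨hp⟩
  have hp2 : p ≠ 2 := by omega
  obtain ⟨k, hk⟩ := hp.odd_of_ne_two hp2
  have hk2 : (p - 1) / 2 = k := by omega
  rw [hk2] at he
  have hinj : Function.Injective (MulAut.conj : X →* MulAut X) := by
    rw [injective_iff_map_eq_one]
    intro a ha
    have h1 : a ∈ center X := by
      rw [mem_center_iff]
      intro g
      have h2 : MulAut.conj a g = g := by rw [ha]; rfl
      rw [MulAut.conj_apply] at h2
      exact (mul_inv_eq_iff_eq_mul.1 h2).symm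
    rwa [hcen, mem_bot] at h1
  have hcard : Nat.card (MulAut X) = Nat.card X * 2 := by
    rw [← hi, ← (MulAut.conj : X →* MulAut X).range.card_mul_index]
    congr 1
    exact (Nat.card_congr (MonoidHom.ofInjective hinj).toEquiv).symm
  -- a degree of `X`
  obtain ⟨P, -, ⟨D⟩⟩ := exists_SC (G := X) p hp2 hd hdd hC he (t := 2) (by omega)
  have : Finite (IrrCharacter X) := finite_irr
  have : Fintype (IrrCharacter X) := Fintype.ofFinite _
  have h1 := card_exc D (by omega) (by omega) (by omega)
  have h2 : (Finset.univ.filter fun χ : IrrCharacter X => dg χ % p = k ∨ dg χ % p = p - k).Nonempty := by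
    rw [← Finset.card_pos]
    calc 0 < 2 := by norm_num
      _ = _ := h1.symm
  obtain ⟨χ, hχ⟩ := h2
  rw [Finset.mem_filter] at hχ
  have hχd : dg χ ∈ charDegrees X := ⟨χ, rfl⟩
  -- the degrees of `Aut X`
  have hdA : p ∣ Nat.card (MulAut X) := by rw [hcard]; exact hd.mul_right 2
  have hddA : ¬ p ^ 2 ∣ Nat.card (MulAut X) := by
    rw [hcard]
    intro h
    exact hdd (Nat.Coprime.dvd_of_dvd_mul_right (Nat.Coprime.pow_left 2 ((Nat.coprime_primes hp Nat.prime_two).2 hp2)) h)
  have heA : Nat.card (MulAut X) / p % p = p - 1 := by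
    obtain ⟨m, hm⟩ := hd
    rw [hcard, hm, mul_assoc, Nat.mul_div_cancel_left _ hp.pos]
    rw [hm, Nat.mul_div_cancel_left _ hp.pos] at he
    rw [Nat.mul_mod, he, Nat.mod_eq_of_lt (show 2 < p by omega), Nat.mod_eq_of_lt (by omega)]
    omega
  obtain ⟨PA, -, ⟨DA⟩⟩ := exists_SC (G := MulAut X) p hp2 hdA hddA (cent_aut hp hp2 hcen hC hi hO) heA (t := 1) (by omega)
  intro heq
  rw [heq] at hχd
  obtain ⟨ψ, hψ⟩ := hχd
  have h3 := mod_cases DA hp.two_le (by omega) (by omega) ψ
  have h4 : dg ψ = dg χ := hψ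
  rw [h4] at h3
  omega

end Cfsg.Agent.H882.S8.Out
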